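import Mathlib
import Groth.Prelude.Def_CAlgX

/-!
# Smooth locus of the generic determinantal ring
-/

set_option autoImplicit false
universe u

open Matrix

namespace Groth.Agent.DetSmooth

variable {T : Type u} [CommRing T] {n m r : ℕ}

theorem det_mem_of_sub_mem {r : ℕ} (Q : Ideal T) (N N' : Matrix (Fin r) (Fin r) T)
    (h : ∀ i j, N' i j - N i j ∈ Q) (hN : N.det ∈ Q) : N'.det ∈ Q := by
  rw [← Ideal.Quotient.eq_zero_iff_mem] at hN ⊢
  rw [RingHom.map_det] at hN ⊢
  have : (Ideal.Quotient.mk Q).mapMatrix N' = (Ideal.Quotient.mk Q).mapMatrix N := by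
    ext i j
    exact (Ideal.Quotient.eq).2 (h i j)
  rw [this]; exact hN

/-- First-order expansion of a determinant all of whose cofactors lie in `Q`. -/
theorem det_sub_det_mem (Q K : Ideal T) (hKQ : K ≤ Q) (N N' : Matrix (Fin (r + 1)) (Fin (r + 1)) T)
    (h : ∀ i j, N' i j - N i j ∈ K)
    (hminor : ∀ f g : Fin r → Fin (r + 1), (N.submatrix f g).det ∈ Q) :
    N'.det - N.det ∈ Q * K := by
  let S : ℕ → Matrix (Fin (r + 1)) (Fin (r + 1)) T := fun s i j => if i.val < s then N' i j else N i j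
  have hS : ∀ s i j, S s i j - N i j ∈ Q := by
    intro s i j
    simp only [S]
    split_ifs
    · exact hKQ (h i j)
    · simp
  have hadj : ∀ s i j, (S s).adjugate i j ∈ Q := by
    intro s i j
    rw [adjugate_fin_succ_eq_det_submatrix]
    exact Q.mul_mem_left _ (det_mem_of_sub_mem Q _ _ (fun a b => hS s _ _) (hminor _ _))
  have hstep : ∀ s : ℕ, (S (s + 1)).det - (S s).det ∈ Q * K := by
    intro s
    by_cases hs : s < r + 1
    · let i0 : Fin (r + 1) := ⟨s, hs⟩
      have h1 : S (s + 1) = (S s).updateRow i0 ((S s) i0 + fun j => N' i0 j - N i0 j) := by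
        ext i j
        by_cases hi : i = i0
        · subst hi
          simp [S, i0]
        · have : i.val ≠ s := fun hh => hi (Fin.ext hh)
          simp only [updateRow_ne hi, S]
          by_cases h' : i.val < s
          · rw [if_pos (by omega), if_pos h']
          · rw [if_neg (by omega), if_neg h']
      rw [h1, det_updateRow_add, updateRow_eq_self, add_sub_cancel_left,
        ← cramer_transpose_apply, cramer_eq_adjugate_mulVec, mulVec, dotProduct]
      refine Ideal.sum_mem _ fun j _ => Ideal.mul_mem_mul ?_ (h i0 j)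
      rw [← adjugate_transpose]
      exact hadj s j i0
    · have : S (s + 1) = S s := by
        ext i j
        simp only [S]
        rw [if_pos (by omega), if_pos (by omega)]
      rw [this, sub_self]; exact zero_mem _
  have hall : ∀ s : ℕ, (S s).det - (S 0).det ∈ Q * K := by
    intro s
    induction s with
    | zero => simp
    | succ s ih => simpa using Ideal.add_mem _ (hstep s) ih
  have e0 : S 0 = N := by ext i j; simp [S]
  have e1 : S (r + 1) = N' := by ext i j; simp [S, i.isLt]
  simpa [e0, e1] using hall (r + 1)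

/-- If an `r × r` minor is a unit and all `(r+1) × (r+1)` minors vanish, every entry is determined
by the rows and columns of that minor. -/
theorem entry_eq (N : Matrix (Fin n) (Fin m) T)
    (hN : ∀ (f : Fin (r + 1) → Fin n) (g : Fin (r + 1) → Fin m), (N.submatrix f g).det = 0)
    (f0 : Fin r → Fin n) (g0 : Fin r → Fin m) (hu : IsUnit (N.submatrix f0 g0).det) :
    N.submatrix id g0 * (N.submatrix f0 g0)⁻¹ * N.submatrix f0 id = N := by
  ext i j
  let A := N.submatrix f0 g0
  haveI : Invertible A := invertibleOfIsUnitDet A hu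
  have h := hN (Sum.elim f0 (fun _ : Fin 1 => i) ∘ finSumFinEquiv.symm)
    (Sum.elim g0 (fun _ : Fin 1 => j) ∘ finSumFinEquiv.symm)
  rw [← submatrix_submatrix, det_submatrix_equiv_self,
    ← fromBlocks_toBlocks (N.submatrix (Sum.elim f0 _) (Sum.elim g0 _))] at h
  change (fromBlocks A (N.submatrix f0 (fun _ : Fin 1 => j)) (N.submatrix (fun _ : Fin 1 => i) g0)
    (N.submatrix (fun _ : Fin 1 => i) (fun _ : Fin 1 => j))).det = 0 at h
  rw [det_fromBlocks₁₁, det_fin_one] at h
  have h2 := hu.mul_right_eq_zero.1 h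
  rw [Matrix.sub_apply, sub_eq_zero, invOf_eq_nonsing_inv] at h2
  simpa [Matrix.mul_apply, submatrix_apply] using h2.symm

theorem det_factor_eq_zero {ι : Type} [Fintype ι] [DecidableEq ι] (U : Matrix ι (Fin r) T) (V : Matrix (Fin r) ι T)
    (hc : Fintype.card ι = r + 1) : (U * V).det = 0 := by
  let e : ι ≃ Fin r ⊕ Fin 1 := Fintype.equivOfCardEq (by simp [hc])
  have h : (U * V).submatrix e.symm e.symm =
      fromCols (U.submatrix e.symm id) 0 * fromRows (V.submatrix id e.symm) 0 := by
    rw [fromCols_mul_fromRows, Matrix.zero_mul, add_zero]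
    exact submatrix_mul _ _ _ _ _ Function.bijective_id
  rw [← det_submatrix_equiv_self e.symm, h, det_mul]
  rw [det_eq_zero_of_row_eq_zero (A := fromRows (V.submatrix id e.symm) 0) (Sum.inr 0) (fun j => rfl),
    mul_zero]

noncomputable abbrev gen (k : Type u) [Field k] (n m : ℕ) : Matrix (Fin n) (Fin m) (MvPolynomial (Fin n × Fin m) k) :=
  Matrix.of fun i j => MvPolynomial.X (i, j)


abbrev DRing (k : Type u) [Field k] (n m r : ℕ) : Type u := MvPolynomial (Fin n × Fin m) k ⧸ CAlgX.minorIdeal (gen k n m) (r + 1)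

variable (k : Type u) [Field k]

theorem aeval_minor {A : Type u} [CommRing A] [Algebra k A] (N : Matrix (Fin n) (Fin m) A) {s : ℕ}
    (f : Fin s → Fin n) (g : Fin s → Fin m) :
    MvPolynomial.aeval (fun x : Fin n × Fin m => N x.1 x.2) ((gen k n m).submatrix f g).det =
      (N.submatrix f g).det := by
  rw [AlgHom.map_det]
  congr 1
  ext i j
  simp

theorem minorIdeal_le_ker {A : Type u} [CommRing A] [Algebra k A] (N : Matrix (Fin n) (Fin m) A) {s : ℕ}
    (h : ∀ (f : Fin s → Fin n) (g : Fin s → Fin m), (N.submatrix f g).det = 0) :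
    ∀ x ∈ CAlgX.minorIdeal (gen k n m) s,
      MvPolynomial.aeval (fun x : Fin n × Fin m => N x.1 x.2) x = 0 := by
  intro x hx
  suffices CAlgX.minorIdeal (gen k n m) s ≤
      RingHom.ker (MvPolynomial.aeval (R := k) (fun x : Fin n × Fin m => N x.1 x.2)) from this hx
  rw [CAlgX.minorIdeal, Ideal.span_le]
  rintro _ ⟨⟨f, g⟩, rfl⟩
  simp only [SetLike.mem_coe, RingHom.mem_ker, aeval_minor, h]

theorem formallySmooth_away (f0 : Fin r → Fin n) (g0 : Fin r → Fin m) :
    Algebra.FormallySmooth k (Localization.Away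
      (Ideal.Quotient.mk (CAlgX.minorIdeal (gen k n m) (r + 1)) ((gen k n m).submatrix f0 g0).det)) := by
  let δ := Ideal.Quotient.mk (CAlgX.minorIdeal (gen k n m) (r + 1)) ((gen k n m).submatrix f0 g0).det
  refine Algebra.FormallySmooth.of_comp_surjective ?_
  intro A _ _ J hJ ψ
  let ι : DRing k n m r →ₐ[k] Localization.Away δ := IsScalarTower.toAlgHom k _ _
  let π : MvPolynomial (Fin n × Fin m) k →ₐ[k] Localization.Away δ := ι.comp (Ideal.Quotient.mkₐ k _)
  let Nb : Matrix (Fin n) (Fin m) (A ⧸ J) := Matrix.of fun i j => ψ (π (MvPolynomial.X (i, j)))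
  have hψ : ∀ p, ψ (π p) = MvPolynomial.aeval (fun x : Fin n × Fin m => Nb x.1 x.2) p :=
    fun p => DFunLike.congr_fun (MvPolynomial.algHom_ext (f := ψ.comp π)
      (g := MvPolynomial.aeval (fun x : Fin n × Fin m => Nb x.1 x.2))
      (fun x => by simp [Nb])) p
  have hNb : ∀ (f : Fin (r + 1) → Fin n) (g : Fin (r + 1) → Fin m), (Nb.submatrix f g).det = 0 := by
    intro f g
    rw [← aeval_minor k Nb f g, ← hψ]
    have : π ((gen k n m).submatrix f g).det = 0 := by
      have hz : Ideal.Quotient.mk (CAlgX.minorIdeal (gen k n m) (r + 1)) ((gen k n m).submatrix f g).det = 0 :=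
        (Ideal.Quotient.eq_zero_iff_mem).2 (Ideal.subset_span ⟨(f, g), rfl⟩)
      simp only [π, AlgHom.comp_apply, Ideal.Quotient.mkₐ_eq_mk, hz, map_zero]
    rw [this, map_zero]
  have hWb : IsUnit (Nb.submatrix f0 g0).det := by
    rw [← aeval_minor k Nb f0 g0, ← hψ]
    exact (IsLocalization.Away.algebraMap_isUnit δ).map ψ
  choose lift hlift using fun x : A ⧸ J => Ideal.Quotient.mk_surjective x
  let N0 : Matrix (Fin n) (Fin m) A := Nb.map lift
  have hN0 : (Ideal.Quotient.mk J).mapMatrix (N0.submatrix f0 g0) = Nb.submatrix f0 g0 := by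
    ext i j; simp [N0, hlift]
  have hW : IsUnit (N0.submatrix f0 g0).det := by
    have hloc : IsLocalHom (Ideal.Quotient.mk J) := by
      refine ⟨fun a ha => ?_⟩
      exact (IsNilpotent.isUnit_quotient_mk_iff (I := J) ⟨2, hJ⟩).1 ha
    have : IsUnit (Ideal.Quotient.mk J (N0.submatrix f0 g0).det) := by
      rw [RingHom.map_det, hN0]; exact hWb
    exact (isUnit_map_iff (Ideal.Quotient.mk J) _).1 this
  let N : Matrix (Fin n) (Fin m) A := N0.submatrix id g0 * (N0.submatrix f0 g0)⁻¹ * N0.submatrix f0 id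
  have hNminor : ∀ (f : Fin (r + 1) → Fin n) (g : Fin (r + 1) → Fin m), (N.submatrix f g).det = 0 := by
    intro f g
    rw [show N.submatrix f g = (N0.submatrix id g0 * (N0.submatrix f0 g0)⁻¹).submatrix f id *
      (N0.submatrix f0 id).submatrix id g from submatrix_mul _ _ _ _ _ Function.bijective_id]
    exact det_factor_eq_zero _ _ (Fintype.card_fin _)
  have hinv : (Ideal.Quotient.mk J).mapMatrix (N0.submatrix f0 g0)⁻¹ = (Nb.submatrix f0 g0)⁻¹ := by
    symm
    refine inv_eq_right_inv ?_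
    rw [← hN0, ← map_mul, mul_nonsing_inv _ hW, map_one]
  have hNmap : ∀ i j, Ideal.Quotient.mk J (N i j) = Nb i j := by
    intro i j
    conv_rhs => rw [← entry_eq Nb hNb f0 g0 hWb, ← hinv]
    simp [N, N0, Matrix.mul_apply, hlift]
  let φ : DRing k n m r →ₐ[k] A := Ideal.Quotient.liftₐ _
    (MvPolynomial.aeval (fun x : Fin n × Fin m => N x.1 x.2)) (minorIdeal_le_ker k N hNminor)
  have hφ : ∀ p, φ (Ideal.Quotient.mk _ p) = MvPolynomial.aeval (fun x : Fin n × Fin m => N x.1 x.2) p :=
    fun p => rfl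
  have hunit : ∀ y : Submonoid.powers δ, IsUnit (φ y) := by
    rintro ⟨_, s, rfl⟩
    simp only [map_pow]
    refine IsUnit.pow _ ?_
    rw [show φ δ = (N.submatrix f0 g0).det from (hφ _).trans (aeval_minor k N f0 g0)]
    have hNW : N.submatrix f0 g0 = N0.submatrix f0 g0 := by
      rw [show N.submatrix f0 g0 = ((N0.submatrix id g0 * (N0.submatrix f0 g0)⁻¹).submatrix f0 id) *
          (N0.submatrix f0 id).submatrix id g0 from submatrix_mul _ _ _ _ _ Function.bijective_id,
        submatrix_mul _ _ _ _ _ Function.bijective_id]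
      simp only [submatrix_submatrix, Function.comp_id, Function.id_comp, submatrix_id_id]
      rw [mul_nonsing_inv _ hW, Matrix.one_mul]
    rw [hNW]; exact hW
  let χ : Localization.Away δ →ₐ[k] A := IsLocalization.liftAlgHom (M := Submonoid.powers δ) hunit
  refine ⟨χ, IsLocalization.algHom_ext (Submonoid.powers δ) ?_⟩
  refine Ideal.Quotient.algHom_ext k (MvPolynomial.algHom_ext fun x => ?_)
  change Ideal.Quotient.mk J (χ (algebraMap (DRing k n m r) (Localization.Away δ)
    (Ideal.Quotient.mk _ (MvPolynomial.X x)))) = ψ (π (MvPolynomial.X x))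
  rw [show χ (algebraMap (DRing k n m r) (Localization.Away δ) (Ideal.Quotient.mk _ (MvPolynomial.X x))) =
      φ (Ideal.Quotient.mk _ (MvPolynomial.X x)) from IsLocalization.lift_eq hunit _, hφ, hψ]
  simp [hNmap]

theorem map_minorIdeal_eq_bot (P : Ideal (DRing k n m r)) [P.IsPrime]
    [Algebra.FormallySmooth k (Localization.AtPrime P)]
    {S : Type u} [CommRing S] [Algebra k S] [IsLocalRing S] [IsNoetherianRing S]
    (j : MvPolynomial (Fin n × Fin m) k →ₐ[k] S)
    (hunit : ∀ y, Ideal.Quotient.mk _ y ∉ P → IsUnit (j y))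
    (hI : ∀ x ∈ CAlgX.minorIdeal (gen k n m) (r + 1), j x ∈ IsLocalRing.maximalIdeal S)
    (hJ : ∀ x ∈ CAlgX.minorIdeal (gen k n m) r, j x ∈ IsLocalRing.maximalIdeal S) :
    (CAlgX.minorIdeal (gen k n m) (r + 1)).map j = ⊥ := by
  set I := CAlgX.minorIdeal (gen k n m) (r + 1) with hIdef
  set K : Ideal S := I.map j with hKdef
  have hKm : K ≤ IsLocalRing.maximalIdeal S := Ideal.map_le_iff_le_comap.2 hI
  let mkT : S →ₐ[k] S ⧸ K * K := Ideal.Quotient.mkₐ k (K * K)
  set Kb : Ideal (S ⧸ K * K) := K.map mkT with hKbdef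
  set Q : Ideal (S ⧸ K * K) := (IsLocalRing.maximalIdeal S).map mkT with hQdef
  have hKb : Kb ^ 2 = ⊥ := by
    exact (sq Kb).trans ((Ideal.map_mul mkT K K).symm.trans (Ideal.map_quotient_self (K * K)))
  let q : MvPolynomial (Fin n × Fin m) k →ₐ[k] S ⧸ K * K := mkT.comp j
  have hqI : I.map q = Kb := (Ideal.map_map (I := I) j.toRingHom mkT.toRingHom).symm
  let φ : DRing k n m r →ₐ[k] (S ⧸ K * K) ⧸ Kb := Ideal.Quotient.liftₐ I ((Ideal.Quotient.mkₐ k Kb).comp q)
    (fun x hx => (Ideal.Quotient.eq_zero_iff_mem).2 (hqI ▸ Ideal.mem_map_of_mem q hx))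
  have hφunit : ∀ y : P.primeCompl, IsUnit (φ y) := by
    rintro ⟨y, hy⟩
    obtain ⟨y, rfl⟩ := Ideal.Quotient.mk_surjective y
    exact ((hunit y hy).map mkT).map (Ideal.Quotient.mkₐ k Kb)
  let ψ : Localization.AtPrime P →ₐ[k] (S ⧸ K * K) ⧸ Kb := IsLocalization.liftAlgHom (M := P.primeCompl) hφunit
  obtain ⟨σ, hσ⟩ := Algebra.FormallySmooth.comp_surjective k (Localization.AtPrime P) Kb hKb ψ
  let σ' : MvPolynomial (Fin n × Fin m) k →ₐ[k] S ⧸ K * K :=
    σ.comp ((IsScalarTower.toAlgHom k (DRing k n m r) (Localization.AtPrime P)).comp (Ideal.Quotient.mkₐ k I))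
  have hdiff : ∀ p, σ' p - q p ∈ Kb := by
    intro p
    rw [← Ideal.Quotient.eq_zero_iff_mem, map_sub, sub_eq_zero]
    have := DFunLike.congr_fun hσ (algebraMap (DRing k n m r) _ (Ideal.Quotient.mk I p))
    refine this.trans ?_
    exact IsLocalization.lift_eq hφunit _
  have hKQ : Kb ≤ Q := Ideal.map_mono hKm
  have hgen : I.map q ≤ Q * Kb := by
    rw [hIdef]
    simp only [CAlgX.minorIdeal]
    rw [Ideal.map_le_iff_le_comap, Ideal.span_le]
    rintro _ ⟨⟨f, g⟩, rfl⟩
    simp only [SetLike.mem_coe, Ideal.mem_comap]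
    have h0 : σ' ((gen k n m).submatrix f g).det = 0 := by
      have : Ideal.Quotient.mk I ((gen k n m).submatrix f g).det = 0 :=
        (Ideal.Quotient.eq_zero_iff_mem).2 (Ideal.subset_span ⟨(f, g), rfl⟩)
      simp only [σ', AlgHom.comp_apply, Ideal.Quotient.mkₐ_eq_mk, this, map_zero]
    have hd := det_sub_det_mem Q Kb hKQ (q.mapMatrix ((gen k n m).submatrix f g))
      (σ'.mapMatrix ((gen k n m).submatrix f g)) (fun i j => hdiff _) (fun a b => by
        rw [show (q.mapMatrix ((gen k n m).submatrix f g)).submatrix a b =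
          q.mapMatrix ((gen k n m).submatrix (f ∘ a) (g ∘ b)) from rfl, ← AlgHom.map_det]
        exact Ideal.mem_map_of_mem mkT (hJ _ (Ideal.subset_span ⟨(f ∘ a, g ∘ b), rfl⟩)))
    rw [← AlgHom.map_det, ← AlgHom.map_det, h0, zero_sub, neg_mem_iff] at hd
    exact hd
  have hle : K ≤ IsLocalRing.maximalIdeal S * K := by
    intro x hx
    have h1 : mkT x ∈ Q * Kb := hgen (hqI.symm ▸ Ideal.mem_map_of_mem mkT hx)
    rw [show Q * Kb = (IsLocalRing.maximalIdeal S * K).map mkT from (Ideal.map_mul _ _ _).symm] at h1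
    obtain ⟨y, hy, hxy⟩ := (Ideal.mem_map_iff_of_surjective mkT Ideal.Quotient.mk_surjective).1 h1
    have h2 : x - y ∈ K * K := (Ideal.Quotient.eq).1 hxy.symm
    have h3 : K * K ≤ IsLocalRing.maximalIdeal S * K := Ideal.mul_mono_left hKm
    simpa using Ideal.add_mem _ (h3 h2) hy
  exact Submodule.eq_bot_of_le_smul_of_le_jacobson_bot (IsLocalRing.maximalIdeal S) K
    (IsNoetherian.noetherian K) (by simpa [smul_eq_mul] using hle) (IsLocalRing.maximalIdeal_le_jacobson ⊥)

theorem not_formallySmooth_atPrime (hn : r < n) (hm : r < m) (P : Ideal (DRing k n m r)) [P.IsPrime]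
    (hP : (CAlgX.minorIdeal (gen k n m) r).map (Ideal.Quotient.mk _) ≤ P) :
    ¬ Algebra.FormallySmooth k (Localization.AtPrime P) := by
  intro hsm
  let P' : Ideal (MvPolynomial (Fin n × Fin m) k) := P.comap (Ideal.Quotient.mk _)
  have hmem : ∀ x ∈ P', algebraMap _ (Localization.AtPrime P') x ∈ IsLocalRing.maximalIdeal (Localization.AtPrime P') :=
    fun x hx => (IsLocalization.AtPrime.to_map_mem_maximal_iff _ P' x).2 hx
  have hK := map_minorIdeal_eq_bot k P (IsScalarTower.toAlgHom k _ (Localization.AtPrime P'))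
    (fun y hy => IsLocalization.map_units _ (⟨y, hy⟩ : P'.primeCompl))
    (fun x hx => hmem x (by simp [P', (Ideal.Quotient.eq_zero_iff_mem).2 hx]))
    (fun x hx => hmem x (hP (Ideal.mem_map_of_mem _ hx)))
  let f : Fin (r + 1) → Fin n := Fin.castLE (by omega)
  let g : Fin (r + 1) → Fin m := Fin.castLE (by omega)
  have hz : ((gen k n m).submatrix f g).det = 0 := by
    apply IsLocalization.injective (Localization.AtPrime P') P'.primeCompl_le_nonZeroDivisors
    rw [map_zero, ← Ideal.mem_bot (R := Localization.AtPrime P'), ← hK]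
    exact Ideal.mem_map_of_mem _ (Ideal.subset_span ⟨(f, g), rfl⟩)
  have := congrArg (MvPolynomial.aeval (R := k) (fun x : Fin n × Fin m => if x.1.val = x.2.val then (1 : k) else 0)) hz
  rw [map_zero, AlgHom.map_det] at this
  refine one_ne_zero (α := k) (Eq.trans ?_ this)
  rw [← det_one (R := k) (n := Fin (r + 1))]
  congr 1
  ext i j
  simp [f, g, Matrix.one_apply, Fin.ext_iff]

theorem mem_smoothLocus_iff (hn : r < n) (hm : r < m) (P : PrimeSpectrum (DRing k n m r)) :
    P ∈ Algebra.smoothLocus k (DRing k n m r) ↔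
      ¬ (CAlgX.minorIdeal (gen k n m) r).map (Ideal.Quotient.mk _) ≤ P.asIdeal := by
  refine ⟨fun h hP => not_formallySmooth_atPrime k hn hm P.asIdeal hP h, fun h => ?_⟩
  rw [Ideal.map_le_iff_le_comap, show CAlgX.minorIdeal (gen k n m) r =
    Ideal.span (Set.range fun fg : (Fin r → Fin n) × (Fin r → Fin m) =>
      ((gen k n m).submatrix fg.1 fg.2).det) from rfl, Ideal.span_le] at h
  obtain ⟨_, ⟨⟨f0, g0⟩, rfl⟩, hx⟩ := Set.not_subset.1 h
  haveI : Algebra.FinitePresentation k (DRing k n m r) :=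
    Algebra.FinitePresentation.of_finiteType.1 inferInstance
  exact (Algebra.basicOpen_subset_smoothLocus_iff.2 (formallySmooth_away k f0 g0)) hx

end Groth.Agent.DetSmooth
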